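import Mathlib.Algebra.Lie.UniversalEnveloping
import Mathlib.LinearAlgebra.Basis.Defs
import Mathlib.LinearAlgebra.Finsupp.LinearCombination
import Mathlib.Data.Multiset.Sort

/-!
# The Poincaré–Birkhoff–Witt basis

`GrothLib.PBW.act b i` is the action of the basis vector `b i` on the free module on multisets of
indices which is transported from left multiplication in the enveloping algebra along ordered
monomials. It is a representation of the Lie algebra, which gives the PBW theorem.
-/

set_option autoImplicit false

namespace GrothLib.PBW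

universe u v w

open Finsupp

variable {k : Type u} [CommRing k] {L : Type v} [LieRing L] [LieAlgebra k L]
variable {ι : Type w} [LinearOrder ι] (b : Module.Basis ι k L)

/-- The free module on multisets of indices. -/
abbrev V (k : Type u) [CommRing k] (ι : Type w) : Type (max u w) := Multiset ι →₀ k

/-- The basis vector of a multiset. -/
noncomputable def z (s : Multiset ι) : V k ι := Finsupp.single s 1

/-- Extend a function on basis vectors linearly. -/
noncomputable abbrev ext (f : Multiset ι → V k ι) : V k ι →ₗ[k] V k ι :=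
  Finsupp.linearCombination k f

omit [LinearOrder ι] in
@[simp] theorem ext_z (f : Multiset ι → V k ι) (s : Multiset ι) : ext f (z s) = f s := by
  simp [ext, z]

/-- Action of basis vectors, with fuel. -/
noncomputable def actAux : ℕ → ι → Multiset ι → V k ι
  | 0, i, s => z (i ::ₘ s)
  | n + 1, i, s =>
    match s.sort (· ≤ ·) with
    | [] => z (i ::ₘ s)
    | h :: t =>
      if i ≤ h then z (i ::ₘ s)
      else z (i ::ₘ s)
        + ext (actAux n h) ((actAux n i ↑t).filter fun m => m.card ≤ t.length)
        + (b.repr ⁅b i, b h⁆).sum fun a c => c • actAux n a ↑t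

/-- Action of basis vectors. -/
noncomputable def act (i : ι) : V k ι →ₗ[k] V k ι :=
  ext fun s => actAux b s.card i s

/-- The part of a vector supported on multisets of cardinality at most `n`. -/
def Low (n : ℕ) (v : V k ι) : Prop := ∀ m ∈ v.support, m.card ≤ n

theorem sort_ne_nil_elim {s : Multiset ι} {h : ι} {t : List ι} (e : s.sort (· ≤ ·) = h :: t) :
    s = h ::ₘ ↑t ∧ s.card = t.length + 1 ∧ ∀ x ∈ t, h ≤ x := by
  have h1 : s = h ::ₘ ↑t := by
    conv_lhs => rw [← Multiset.sort_eq s (· ≤ ·), e]
    rfl
  refine ⟨h1, by simp [h1], ?_⟩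
  have := Multiset.pairwise_sort s (· ≤ ·)
  rw [e, List.pairwise_cons] at this
  exact this.1

theorem actAux_stable : ∀ (n : ℕ) (i : ι) (s : Multiset ι), s.card ≤ n →
    actAux b n i s = act b i (z s) := by
  suffices ∀ (n : ℕ) (i : ι) (s : Multiset ι), s.card ≤ n →
      ∀ m, s.card ≤ m → actAux b n i s = actAux b m i s by
    intro n i s h
    rw [act, ext_z]
    exact this n i s h _ le_rfl
  intro n
  induction n with
  | zero =>
    intro i s hs m _
    obtain rfl : s = 0 := Multiset.card_eq_zero.mp (Nat.le_zero.mp hs)
    cases m <;> simp [actAux]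
  | succ n ih =>
    intro i s hs m hm
    cases m with
    | zero =>
      obtain rfl : s = 0 := Multiset.card_eq_zero.mp (Nat.le_zero.mp hm)
      simp [actAux]
    | succ m =>
      simp only [actAux]
      rcases e : s.sort (· ≤ ·) with _ | ⟨h, t⟩
      · rfl
      · obtain ⟨-, hc, -⟩ := sort_ne_nil_elim e
        have hn : t.length ≤ n := by omega
        have hm' : t.length ≤ m := by omega
        simp only
        split
        · rfl
        · have e1 : ∀ a, actAux b n a ↑t = actAux b m a ↑t := fun a => ih a ↑t hn m hm'
          rw [e1 i]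
          congr 1
          · congr 1
            simp only [ext, Finsupp.linearCombination_apply]
            refine Finsupp.sum_congr fun x hx => ?_
            rw [Finsupp.support_filter, Finset.mem_filter] at hx
            rw [ih h x (hx.2.trans hn) m (hx.2.trans hm')]
          · simp only [e1]

theorem act_of_le {i : ι} {s : Multiset ι} (hi : ∀ x ∈ s, i ≤ x) :
    act b i (z s) = z (i ::ₘ s) := by
  rw [← actAux_stable b (s.card + 1) i s (Nat.le_succ _), actAux]
  rcases e : s.sort (· ≤ ·) with _ | ⟨h, t⟩
  · rfl
  · have : i ≤ h := hi h (by simp [(sort_ne_nil_elim e).1])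
    simp [this]

omit [LinearOrder ι] in
/-- The linear combination of actions given by the coordinates of a vector. -/
noncomputable def ρaux [LinearOrder ι] : L →ₗ[k] Module.End k (V k ι) := b.constr k (act b)

theorem ρaux_basis (i : ι) : ρaux b (b i) = act b i := by simp [ρaux]

theorem ρaux_apply (x : L) (v : V k ι) :
    ρaux b x v = (b.repr x).sum fun a c => c • act b a v := by
  simp [ρaux, Module.Basis.constr_apply, Finsupp.sum, LinearMap.sum_apply]

theorem act_cons {i h : ι} {t : Multiset ι} (ht : ∀ x ∈ t, h ≤ x) (hi : h < i) :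
    act b i (z (h ::ₘ t)) = z (i ::ₘ h ::ₘ t)
      + act b h ((act b i (z t)).filter fun m => m.card ≤ t.card)
      + ρaux b ⁅b i, b h⁆ (z t) := by
  have e : (h ::ₘ t).sort (· ≤ ·) = h :: t.sort (· ≤ ·) :=
    Multiset.sort_cons h t (· ≤ ·) ht
  rw [← actAux_stable b (t.card + 1) i (h ::ₘ t) (by simp), actAux]
  simp only [e, if_neg (not_le.mpr hi), Multiset.sort_eq, Multiset.length_sort]
  congr 1
  · congr 1
    rw [actAux_stable b _ i t le_rfl]
    generalize act b i (z t) = w
    simp only [act, ext, Finsupp.linearCombination_apply]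
    refine Finsupp.sum_congr fun x hx => ?_
    rw [Finsupp.support_filter, Finset.mem_filter] at hx
    rw [actAux_stable b _ h x hx.2, act, ext_z]
  · rw [ρaux_apply]
    exact Finsupp.sum_congr fun x _ => by rw [actAux_stable b _ x t le_rfl]

omit [LinearOrder ι] in
theorem low_induction {n : ℕ} {v : V k ι} (hv : Low n v) (P : V k ι → Prop) (h0 : P 0)
    (hadd : ∀ a c, P a → P c → P (a + c)) (hsmul : ∀ (r : k) a, P a → P (r • a))
    (hz : ∀ s : Multiset ι, s.card ≤ n → P (z s)) : P v := by
  have e : v = ∑ m ∈ v.support, v m • z m := by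
    conv_lhs => rw [← Finsupp.sum_single v]
    simp [Finsupp.sum, z]
  rw [e]
  exact Finset.sum_induction _ P hadd h0 fun m hm => hsmul _ _ (hz m (hv m hm))

omit [LinearOrder ι] in
theorem low_z {n : ℕ} {s : Multiset ι} (h : s.card ≤ n) : Low n (z (k := k) s) := fun m hm => by
  classical
  have := Finsupp.support_single_subset hm
  simp only [Finset.mem_singleton] at this
  exact this ▸ h

omit [LinearOrder ι] in
theorem low_add {n : ℕ} {a c : V k ι} (ha : Low n a) (hc : Low n c) : Low n (a + c) := fun m hm => by
  classical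
  rcases Finset.mem_union.mp (Finsupp.support_add hm) with h | h
  · exact ha m h
  · exact hc m h

omit [LinearOrder ι] in
theorem low_smul {n : ℕ} (r : k) {a : V k ι} (ha : Low n a) : Low n (r • a) := fun m hm =>
  ha m (Finsupp.support_smul hm)

omit [LinearOrder ι] in
theorem low_mono {m n : ℕ} (h : m ≤ n) {a : V k ι} (ha : Low m a) : Low n a := fun x hx =>
  (ha x hx).trans h

omit [LinearOrder ι] in
theorem low_zero (n : ℕ) : Low n (0 : V k ι) := fun m hm => by simp at hm

/-- The action raises the filtration degree by one, with the expected leading term. -/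
theorem act_sub_top : ∀ (n : ℕ) (i : ι) (s : Multiset ι), s.card ≤ n →
    Low s.card (act b i (z s) - z (i ::ₘ s)) := by
  intro n
  induction n with
  | zero =>
    intro i s hs
    obtain rfl : s = 0 := Multiset.card_eq_zero.mp (Nat.le_zero.mp hs)
    rw [act_of_le b (by simp), sub_self]
    exact low_zero _
  | succ n ih =>
    intro i s hs
    by_cases hle : ∀ x ∈ s, i ≤ x
    · rw [act_of_le b hle, sub_self]
      exact low_zero _
    rcases e : s.sort (· ≤ ·) with _ | ⟨h, t⟩
    · have : s = 0 := by rw [← Multiset.sort_eq s (· ≤ ·), e]; rfl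
      simp [this] at hle
    · obtain ⟨rfl, -, hmin⟩ := sort_ne_nil_elim e
      have hhi : h < i := not_le.mp fun hih => hle fun x hx => by
        rcases Multiset.mem_cons.mp hx with rfl | hx
        · exact hih
        · exact hih.trans (hmin x hx)
      have hct : (↑t : Multiset ι).card ≤ n := by simpa using hs
      have key : ∀ a (m : Multiset ι), m.card ≤ (↑t : Multiset ι).card →
          Low (h ::ₘ (↑t : Multiset ι)).card (act b a (z m)) := by
        intro a m hm
        have := low_add (low_mono (Nat.le_succ_of_le le_rfl) (ih a m (hm.trans hct)))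
          (low_z (k := k) (le_of_eq (Multiset.card_cons a m)))
        rw [sub_add_cancel] at this
        exact low_mono (by simp; simpa using hm) this
      rw [act_cons b (fun x hx => hmin x hx) hhi, add_assoc, add_sub_cancel_left]
      apply low_add
      · apply low_induction (n := (↑t : Multiset ι).card)
          (v := (act b i (z ↑t)).filter fun m => m.card ≤ (↑t : Multiset ι).card)
          (fun m hm => by
            rw [Finsupp.support_filter, Finset.mem_filter] at hm
            exact hm.2)
          (fun v => Low _ (act b h v))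
        · simpa using low_zero _
        · intro a c ha hc
          simpa using low_add ha hc
        · intro r a ha
          simpa using low_smul r ha
        · exact key h
      · rw [ρaux_apply, Finsupp.sum]
        exact Finset.sum_induction _ _ (fun _ _ => low_add) (low_zero _)
          fun a _ => low_smul _ (key a _ le_rfl)

omit [LinearOrder ι] in
theorem filter_z_neg (p : Multiset ι → Prop) [DecidablePred p] (s : Multiset ι) (h : ¬ p s) :
    (z (k := k) s).filter p = 0 :=
  Finsupp.filter_single_of_neg _ h

/-- The recursion defining the action. -/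
theorem act_cons' {i h : ι} {t : Multiset ι} (ht : ∀ x ∈ t, h ≤ x) (hi : h < i) :
    act b i (z (h ::ₘ t)) = act b h (act b i (z t)) + ρaux b ⁅b i, b h⁆ (z t) := by
  rw [act_cons b ht hi]
  congr 1
  have hlow := act_sub_top b _ i t le_rfl
  have hr : (act b i (z t)).filter (fun m => m.card ≤ t.card) = act b i (z t) - z (i ::ₘ t) := by
    conv_lhs => rw [← sub_add_cancel (act b i (z t)) (z (i ::ₘ t))]
    rw [Finsupp.filter_add, (Finsupp.filter_eq_self_iff _ _).mpr fun m hm =>
      hlow m (Finsupp.mem_support_iff.mpr hm), filter_z_neg _ _ (by simp), add_zero]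
  rw [hr, map_sub, act_of_le b (s := i ::ₘ t) fun x hx => by
    rcases Multiset.mem_cons.mp hx with rfl | hx
    · exact hi.le
    · exact ht x hx]
  rw [Multiset.cons_swap h i t]
  abel

/-- The bracket relation at a vector. -/
def Rel (x y : L) (v : V k ι) : Prop :=
  ρaux b x (ρaux b y v) - ρaux b y (ρaux b x v) = ρaux b ⁅x, y⁆ v

theorem rel_of_basis {v : V k ι} (h : ∀ i j, j < i → Rel b (b i) (b j) v) (x y : L) : Rel b x y v := by
  have hb : ∀ i j, Rel b (b i) (b j) v := by
    intro i j
    rcases lt_trichotomy j i with hji | rfl | hji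
    · exact h i j hji
    · simp [Rel]
    · have := h j i hji
      unfold Rel at this ⊢
      rw [← lie_skew (b i) (b j), map_neg, LinearMap.neg_apply, ← this]
      abel
  let f : L →ₗ[k] L →ₗ[k] V k ι := LinearMap.mk₂ k
    (fun x y => ρaux b x (ρaux b y v) - ρaux b y (ρaux b x v) - ρaux b ⁅x, y⁆ v)
    (fun a c d => by simp only [map_add, LinearMap.add_apply, add_lie]; abel)
    (fun r a d => by simp only [map_smul, LinearMap.smul_apply, smul_lie, smul_sub])
    (fun a c d => by simp only [map_add, LinearMap.add_apply, lie_add]; abel)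
    (fun r a d => by simp only [map_smul, LinearMap.smul_apply, lie_smul, smul_sub])
  have hf : f = 0 := b.ext fun i => b.ext fun j => sub_eq_zero.mpr (hb i j)
  exact sub_eq_zero.mp (LinearMap.congr_fun (LinearMap.congr_fun hf x) y)

theorem rel_all : ∀ (n : ℕ) (x y : L) (v : V k ι), Low n v → Rel b x y v := by
  have lin : ∀ (n : ℕ) (x y : L), (∀ s : Multiset ι, s.card ≤ n → Rel b x y (z s)) →
      ∀ v, Low n v → Rel b x y v := by
    intro n x y h v hv
    apply low_induction hv (Rel b x y)
    · simp [Rel]
    · intro a c ha hc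
      simp only [Rel, map_add] at ha hc ⊢
      rw [← ha, ← hc]; abel
    · intro r a ha
      simp only [Rel, map_smul] at ha ⊢
      rw [← ha, smul_sub]
    · exact h
  have base : ∀ (i j : ι) (s : Multiset ι), j < i → (∀ x ∈ s, j ≤ x) → Rel b (b i) (b j) (z s) := by
    intro i j s hji hs
    simp only [Rel, ρaux_basis]
    rw [act_of_le b hs, act_cons' b hs hji]
    abel
  intro n
  induction n using Nat.strong_induction_on with
  | _ n ih =>
    intro x y
    refine lin n x y fun s hs => rel_of_basis b (fun i j hji => ?_) x y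
    by_cases hle : ∀ x ∈ s, j ≤ x
    · exact base i j s hji hle
    rcases e : s.sort (· ≤ ·) with _ | ⟨h, t⟩
    · have : s = 0 := by rw [← Multiset.sort_eq s (· ≤ ·), e]; rfl
      simp [this] at hle
    obtain ⟨rfl, hc, hmin⟩ := sort_ne_nil_elim e
    have hhj : h < j := not_le.mp fun hjh => hle fun x hx => by
      rcases Multiset.mem_cons.mp hx with rfl | hx
      · exact hjh
      · exact hjh.trans (hmin x hx)
    have hmin' : ∀ x ∈ (↑t : Multiset ι), h ≤ x := fun x hx => hmin x hx
    have hlt : t.length < n := by omega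
    have IH : ∀ (x y : L) v, Low t.length v → Rel b x y v := ih _ hlt
    have hz : Low t.length (z (k := k) (↑t : Multiset ι)) := low_z (by simp)
    -- the relation for `(a, h)` at `act c (z t)`
    have hmid : ∀ a c : ι, h < a → h < c → Rel b (b a) (b h) (act b c (z ↑t)) := by
      intro a c ha hc
      have h1 := IH (b a) (b h) _ (low_mono (le_of_eq (Multiset.coe_card t)) (act_sub_top b _ c (↑t : Multiset ι) le_rfl))
      have h2 := base a h (c ::ₘ ↑t) ha fun x hx => by
        rcases Multiset.mem_cons.mp hx with rfl | hx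
        · exact hc.le
        · exact hmin' x hx
      simp only [Rel, map_sub] at h1 h2 ⊢
      rw [← sub_add_cancel (ρaux b ⁅b a, b h⁆ (act b c (z ↑t))) (ρaux b ⁅b a, b h⁆ (z (c ::ₘ ↑t))),
        ← h1, ← h2]
      abel
    have hhi : h < i := hhj.trans hji
    have hw : ∀ a : ι, h < a → ρaux b (b a) (z (h ::ₘ ↑t)) =
        ρaux b (b h) (ρaux b (b a) (z ↑t)) + ρaux b ⁅b a, b h⁆ (z ↑t) := by
      intro a ha
      simp only [ρaux_basis]
      exact act_cons' b hmin' ha
    have hzh : z (k := k) (h ::ₘ ↑t) = ρaux b (b h) (z ↑t) := by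
      rw [ρaux_basis, act_of_le b hmin']
    have A1 := hmid i j hhi hhj
    have A2 := hmid j i hhj hhi
    rw [← ρaux_basis b j] at A1
    rw [← ρaux_basis b i] at A2
    have B1 := IH (b i) ⁅b j, b h⁆ _ hz
    have B2 := IH (b j) ⁅b i, b h⁆ _ hz
    have B3 := IH (b i) (b j) _ hz
    have B4 := IH ⁅b i, b j⁆ (b h) _ hz
    have J : ⁅b i, ⁅b j, b h⁆⁆ = ⁅⁅b i, b j⁆, b h⁆ + ⁅b j, ⁅b i, b h⁆⁆ := leibniz_lie _ _ _
    have B3' := congrArg (ρaux b (b h)) B3
    rw [map_sub] at B3'
    have J' := congrArg (fun x => ρaux b x (z (k := k) (↑t : Multiset ι))) J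
    simp only [map_add, LinearMap.add_apply] at J'
    simp only [Rel] at A1 A2 B1 B2 B4 ⊢
    rw [hw i hhi, hw j hhj, map_add, map_add, hzh,
      sub_eq_iff_eq_add.mp A1, sub_eq_iff_eq_add.mp A2, sub_eq_iff_eq_add.mp B1,
      sub_eq_iff_eq_add.mp B2, sub_eq_iff_eq_add.mp B4]
    rw [sub_eq_iff_eq_add.mp B3'] at *
    rw [J']
    abel

end GrothLib.PBW
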