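import Groth.Agent.Lib.PBW.Basic

/-!
# The ordered monomials form a basis of the enveloping algebra
-/

set_option autoImplicit false

namespace GrothLib.PBW

universe u v w

variable {k : Type u} [CommRing k] {L : Type v} [LieRing L] [LieAlgebra k L]
variable {ι : Type w} [LinearOrder ι] (b : Module.Basis ι k L)

attribute [local instance 100] LieRing.ofAssociativeRing

/-- The representation of the Lie algebra on the free module on multisets. -/
noncomputable def rep : L →ₗ⁅k⁆ Module.End k (V k ι) :=
  { ρaux b with
    map_lie' := fun {x y} => LinearMap.ext fun v => by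
      obtain ⟨n, hn⟩ : ∃ n, Low n v := ⟨v.support.sup Multiset.card, fun m hm => Finset.le_sup hm⟩
      exact (rel_all b n x y v hn).symm }

/-- The ordered monomial attached to a multiset. -/
noncomputable def mon (s : Multiset ι) : UniversalEnvelopingAlgebra k L :=
  ((s.sort (· ≤ ·)).map fun i => UniversalEnvelopingAlgebra.ι k (b i)).prod

/-- The linear map sending basis vectors to ordered monomials. -/
noncomputable def toU : V k ι →ₗ[k] UniversalEnvelopingAlgebra k L :=
  Finsupp.linearCombination k (mon b)

theorem toU_z (s : Multiset ι) : toU b (z s) = mon b s := by simp [toU, z]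

theorem toU_act : ∀ (n : ℕ) (i : ι) (v : V k ι), Low n v →
    toU b (act b i v) = UniversalEnvelopingAlgebra.ι k (b i) * toU b v := by
  have base : ∀ (i : ι) (s : Multiset ι), (∀ x ∈ s, i ≤ x) →
      toU b (act b i (z s)) = UniversalEnvelopingAlgebra.ι k (b i) * toU b (z s) := by
    intro i s hs
    rw [act_of_le b hs, toU_z, toU_z, mon, Multiset.sort_cons i s (· ≤ ·) hs]
    simp [mon]
  intro n
  induction n using Nat.strong_induction_on with
  | _ n ih =>
    intro i v hv
    refine low_induction hv (fun v => toU b (act b i v) = _ * toU b v) (by simp)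
      (fun a c ha hc => by simp [ha, hc, mul_add]) (fun r a ha => by simp [ha]) fun s hs => ?_
    by_cases hle : ∀ x ∈ s, i ≤ x
    · exact base i s hle
    rcases e : s.sort (· ≤ ·) with _ | ⟨h, t⟩
    · have : s = 0 := by rw [← Multiset.sort_eq s (· ≤ ·), e]; rfl
      simp [this] at hle
    obtain ⟨rfl, hc, hmin⟩ := sort_ne_nil_elim e
    have hhi : h < i := not_le.mp fun hih => hle fun x hx => by
      rcases Multiset.mem_cons.mp hx with rfl | hx
      · exact hih
      · exact hih.trans (hmin x hx)
    have hmin' : ∀ x ∈ (↑t : Multiset ι), h ≤ x := fun x hx => hmin x hx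
    have hlt : t.length < n := by omega
    have IH := ih _ hlt
    have hz : Low t.length (z (k := k) (↑t : Multiset ι)) := low_z (by simp)
    have IHρ : ∀ x : L, toU b (ρaux b x (z ↑t)) =
        UniversalEnvelopingAlgebra.ι k x * toU b (z ↑t) := by
      intro x
      conv_rhs => rw [← b.linearCombination_repr x]
      rw [ρaux_apply, Finsupp.linearCombination_apply, map_finsuppSum]
      simp only [Finsupp.sum, map_sum, map_smul, Finset.sum_mul, smul_mul_assoc, IH _ _ hz]
    -- at the leading term `h` is minimal; the rest is lower
    have hh : toU b (act b h (act b i (z ↑t))) =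
        UniversalEnvelopingAlgebra.ι k (b h) * toU b (act b i (z ↑t)) := by
      have h1 := IH h _ (low_mono (le_of_eq (Multiset.coe_card t))
        (act_sub_top b _ i (↑t : Multiset ι) le_rfl))
      have h2 := base h (i ::ₘ ↑t) fun x hx => by
        rcases Multiset.mem_cons.mp hx with rfl | hx
        · exact hhi.le
        · exact hmin' x hx
      rw [map_sub, map_sub, map_sub, mul_sub] at h1
      have := congrArg₂ (· + ·) h1 h2
      simp only [sub_add_cancel] at this
      exact this
    rw [act_cons' b hmin' hhi, map_add, hh, IH i _ hz, IHρ, ← act_of_le b hmin', base h _ hmin',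
      LieHom.map_lie, LieRing.of_associative_ring_bracket]
    simp only [sub_mul, mul_assoc]
    abel

theorem toU_rep (x : L) (v : V k ι) :
    toU b (rep b x v) = UniversalEnvelopingAlgebra.ι k x * toU b v := by
  obtain ⟨n, hn⟩ : ∃ n, Low n v := ⟨v.support.sup Multiset.card, fun m hm => Finset.le_sup hm⟩
  show toU b (ρaux b x v) = _
  conv_rhs => rw [← b.linearCombination_repr x]
  rw [ρaux_apply, Finsupp.linearCombination_apply, map_finsuppSum]
  simp only [Finsupp.sum, map_sum, map_smul, Finset.sum_mul, smul_mul_assoc, toU_act b n _ _ hn]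

/-- Evaluation of the enveloping algebra at the vacuum vector. -/
noncomputable def ev : UniversalEnvelopingAlgebra k L →ₗ[k] V k ι :=
  (LinearMap.applyₗ (R := k) (z (k := k) (0 : Multiset ι))).comp
    (UniversalEnvelopingAlgebra.lift k (rep b)).toLinearMap

theorem ev_mon : ∀ (l : List ι), l.Pairwise (· ≤ ·) →
    ev b ((l.map fun i => UniversalEnvelopingAlgebra.ι k (b i)).prod) = z (↑l : Multiset ι)
  | [], _ => by simp [ev]
  | i :: t, h => by
    rw [List.pairwise_cons] at h
    have ih := ev_mon t h.2
    simp only [ev, LinearMap.comp_apply, LinearMap.applyₗ_apply_apply, AlgHom.toLinearMap_apply,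
      List.map_cons, List.prod_cons, map_mul, Module.End.mul_apply,
      UniversalEnvelopingAlgebra.lift_ι_apply] at ih ⊢
    rw [ih]
    show ρaux b (b i) _ = _
    rw [ρaux_basis, act_of_le b fun x hx => h.1 x hx]
    rfl

theorem mkAlgHom_surj :
    Function.Surjective (UniversalEnvelopingAlgebra.mkAlgHom k L) :=
  RingCon.mk'_surjective _

theorem toU_lift (u : UniversalEnvelopingAlgebra k L) :
    ∀ v, toU b (UniversalEnvelopingAlgebra.lift k (rep b) u v) = u * toU b v := by
  obtain ⟨w, rfl⟩ := mkAlgHom_surj u
  induction w using TensorAlgebra.induction with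
  | algebraMap r => intro v; simp [Module.algebraMap_end_apply, Algebra.smul_def]
  | ι x =>
    intro v
    simpa using toU_rep b x v
  | mul a c ha hc => intro v; rw [map_mul, map_mul, Module.End.mul_apply, ha, hc, mul_assoc]
  | add a c ha hc => intro v; rw [map_add, map_add, LinearMap.add_apply, map_add, ha, hc, add_mul]

/-- The linear equivalence between the free module on multisets and the enveloping algebra. -/
noncomputable def equiv : V k ι ≃ₗ[k] UniversalEnvelopingAlgebra k L :=
  LinearEquiv.ofLinear (toU b) (ev b)
    (LinearMap.ext fun u => by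
      show toU b (UniversalEnvelopingAlgebra.lift k (rep b) u (z 0)) = u
      rw [toU_lift, toU_z]
      simp [mon])
    (Finsupp.lhom_ext fun s r => by
      rw [← Finsupp.smul_single_one]
      simp only [LinearMap.comp_apply, LinearMap.id_apply, map_smul]
      congr 1
      show ev b (toU b (z s)) = z s
      rw [toU_z, mon, ev_mon b _ (Multiset.pairwise_sort s _), Multiset.sort_eq])

/-- Sorted lists are multisets. -/
noncomputable def sortedEquiv : {l : List ι // l.SortedLE} ≃ Multiset ι where
  toFun l := ↑l.1
  invFun s := ⟨s.sort (· ≤ ·), List.sortedLE_iff_pairwise.mpr (Multiset.pairwise_sort s _)⟩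
  left_inv l := by
    apply Subtype.ext
    show (↑l.1 : Multiset ι).sort (· ≤ ·) = l.1
    exact List.Perm.eq_of_pairwise' (Multiset.pairwise_sort _ _) (List.sortedLE_iff_pairwise.mp l.2)
      (Multiset.coe_eq_coe.mp (Multiset.sort_eq _ _))
  right_inv s := Multiset.sort_eq s _

/-- The PBW basis. -/
noncomputable def basis :
    Module.Basis {l : List ι // l.SortedLE} k (UniversalEnvelopingAlgebra k L) :=
  ((Finsupp.basisSingleOne (R := k) (ι := Multiset ι)).map (equiv b)).reindex sortedEquiv.symm

theorem basis_apply (l : {l : List ι // l.SortedLE}) :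
    basis b l = (l.1.map fun i => UniversalEnvelopingAlgebra.ι k (b i)).prod := by
  simp only [basis, Module.Basis.reindex_apply, Module.Basis.map_apply, Equiv.symm_symm,
    Finsupp.coe_basisSingleOne]
  show toU b (z (sortedEquiv l)) = _
  rw [toU_z, mon]
  congr 2
  exact congrArg Subtype.val (sortedEquiv.symm_apply_apply l)

end GrothLib.PBW
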